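import Mathlib
import Cfsg.Agent.Lib.CosetEnum.Prim

/-!
# The Held recognition: coded models of `2^{1+6}_+ . L₃(2)`

A position `x = l * 128 + q` stands for `q * σ l` with `q = v + 64 * s` in the extraspecial group and `l`
a coset.  The multiplication is given by packed rows.

Owner: helper74.
-/

set_option autoImplicit false

namespace Cfsg.Agent.Lib.HeUniq74

open Cfsg.Agent.Lib.CosetEnum

/-- The parity of three bits. -/
noncomputable def par3 (k : ℕ) : ℕ := Nat.land (Nat.shiftRight 150 k) 1

/-- The cocycle. -/
noncomputable def coc (a b : ℕ) : ℕ :=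
  par3 (Nat.land (Nat.land a 7) (Nat.land (Nat.shiftRight b 3) 7))

/-- The product in the extraspecial group. -/
noncomputable def qmul (a b : ℕ) : ℕ :=
  Nat.xor (Nat.xor a b) (Nat.mul 64 (coc a b))

/-- The inverse in the extraspecial group. -/
noncomputable def qinv (a : ℕ) : ℕ := Nat.xor a (Nat.mul 64 (coc a a))

/-- A byte of a packed row. -/
noncomputable def byte (n i : ℕ) : ℕ := Nat.land (Nat.shiftRight n (Nat.mul 8 i)) 255

/-- The row with a number. -/
noncomputable def row (T : PTree) (l : ℕ) : ℕ := T.lookup (fun n _ => n) l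

/-- The shared table of the quotient `L₃(2)` and the tables of one extension. -/
structure Mdl where
  /-- the product of cosets -/
  lm : PTree
  /-- the inverse cosets -/
  li : ℕ
  /-- the action of `σ l` -/
  phi : PTree
  /-- the factor set -/
  cc : PTree

/-- `l * m`. -/
noncomputable def Mdl.lmul (M : Mdl) (l m : ℕ) : ℕ := byte (row M.lm l) m

/-- The image of `p` under `σ l`. -/
noncomputable def Mdl.act (M : Mdl) (l p : ℕ) : ℕ := byte (row M.phi l) p

/-- The factor of `σ l * σ m`. -/
noncomputable def Mdl.fac (M : Mdl) (l m : ℕ) : ℕ := byte (row M.cc l) m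

/-- The product of positions. -/
noncomputable def mulM (M : Mdl) (x y : ℕ) : ℕ :=
  force (Nat.shiftRight x 7) fun l => force (Nat.land x 127) fun q =>
  force (Nat.shiftRight y 7) fun m => force (Nat.land y 127) fun p =>
  force (qmul q (M.act l p)) fun r => force (M.fac l m) fun c =>
  Nat.add (Nat.mul (M.lmul l m) 128) (qmul r c)

/-- The inverse position. -/
noncomputable def invM (M : Mdl) (x : ℕ) : ℕ :=
  force (Nat.shiftRight x 7) fun l => force (Nat.land x 127) fun q =>
  force (byte M.li l) fun m => force (qmul (qinv (M.fac l m)) (qinv q)) fun r =>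
  Nat.add (Nat.mul m 128) (M.act m r)

/-- The conjugate `x * y * x⁻¹`. -/
noncomputable def conjM (M : Mdl) (x y : ℕ) : ℕ := mulM M (mulM M x y) (invM M x)

/-- Two positions commute. -/
noncomputable def commM (M : Mdl) (x y : ℕ) : Bool := Nat.beq (mulM M x y) (mulM M y x)

/-- The product of a list of positions. -/
noncomputable def prodM (M : Mdl) : List ℕ → ℕ :=
  List.rec (motive := fun _ => ℕ) 0 fun x _ ih => mulM M x ih

/-- The number of positions. -/
abbrev NC : ℕ := 21504

/-- The checks making the coded model a group with identity `0`. -/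
noncomputable def invB (M : Mdl) (x : ℕ) : Bool :=
  Nat.blt (invM M x) 21504 && Nat.beq (mulM M x (invM M x)) 0

/-- `el` identifies the model with the centraliser of `t`. -/
structure IsModel (M : Mdl) {G : Type*} [Group G] (t : G) (el : ℕ → G) : Prop where
  mul_lt : ∀ x < 21504, ∀ y < 21504, mulM M x y < 21504
  inv_ok : ∀ x < 21504, invM M x < 21504 ∧ mulM M x (invM M x) = 0
  map_mul : ∀ x < 21504, ∀ y < 21504, el x * el y = el (mulM M x y)
  inj : ∀ x < 21504, ∀ y < 21504, el x = el y → x = y
  surj : ∀ g : G, g * t = t * g → ∃ x < 21504, el x = g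
  zed : el 64 = t

namespace IsModel

variable {M : Mdl} {G : Type*} [Group G] {t : G} {el : ℕ → G} (h : IsModel M t el)
include h

theorem zero (h00 : mulM M 0 0 = 0) : el 0 = 1 := by
  have e := h.map_mul 0 (by omega) 0 (by omega)
  rw [h00] at e
  exact mul_eq_left.1 e

theorem map_inv (h00 : mulM M 0 0 = 0) {x : ℕ} (hx : x < 21504) : el (invM M x) = (el x)⁻¹ := by
  obtain ⟨h1, h2⟩ := h.inv_ok x hx
  refine eq_inv_of_mul_eq_one_right ?_
  rw [h.map_mul x hx _ h1, h2, h.zero h00]

end IsModel

end Cfsg.Agent.Lib.HeUniq74
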